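import Mathlib

/-!
Annihilator of the top exterior power of the quotient of a finite projective module of constant rank
by one element.
-/

set_option autoImplicit false

universe u v

namespace Groth.Agent.LocIntAnn

open Module

variable {R : Type u} [CommRing R] {M : Type v} [AddCommGroup M] [Module R M]

/-- Local frames: near every prime a finite projective module of rank `n` has `n` elements and `n`
functionals which are dual up to a scalar outside the prime, the elements spanning up to such
scalars. -/
theorem exists_frame [Module.Finite R M] [Module.Projective R M] {n : ℕ} (p : PrimeSpectrum R)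
    (hn : rankAtStalk M p = n) :
    ∃ (e : Fin n → M) (φ : Fin n → (M →ₗ[R] R)) (s : R), s ∉ p.asIdeal ∧
      (∀ i j, φ i (e j) = if i = j then s else 0) ∧
      ∀ v : M, ∃ t : R, t ∉ p.asIdeal ∧ t • v ∈ Submodule.span R (Set.range e) := by
  classical
  have : Module.FinitePresentation R M := Module.finitePresentation_of_projective R M
  let S := p.asIdeal.primeCompl
  let Rp := Localization.AtPrime p.asIdeal
  let Mp := LocalizedModule S M
  let mk := LocalizedModule.mkLinearMap S M
  have : Module.Free Rp Mp := Module.free_of_flat_of_isLocalRing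
  let b : Basis (Fin n) Rp Mp := Module.finBasisOfFinrankEq Rp Mp hn
  have hb : ∀ j, ∃ m : M × S, (m.2 : R) • b j = mk m.1 := fun j ↦ by
    obtain ⟨m, hm⟩ := IsLocalizedModule.surj S mk (b j)
    exact ⟨m, hm⟩
  choose m hm using hb
  let u : Fin n → Rpˣ := fun j ↦ (IsLocalization.map_units Rp (m j).2).unit
  let b' : Basis (Fin n) Rp Mp := b.unitsSMul u
  have hb' : ∀ j, b' j = mk (m j).1 := fun j ↦ by
    rw [Module.Basis.unitsSMul_apply, Units.smul_def, IsUnit.unit_spec, algebraMap_smul, hm]
  have hl : ∀ i, ∃ (g' : M →ₗ[R] R) (s : S), (Algebra.linearMap R Rp) ∘ₗ g' =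
      s • (((b'.coord i).restrictScalars R) ∘ₗ mk) := fun i ↦
    Module.FinitePresentation.exists_lift_of_isLocalizedModule S (Algebra.linearMap R Rp) _
  choose g s hg using hl
  let s0 : R := ∏ i, (s i : R)
  let g0 : Fin n → (M →ₗ[R] R) := fun i ↦ (∏ k ∈ Finset.univ.erase i, (s k : R)) • g i
  have hg0 : ∀ i x, algebraMap R Rp (g0 i x) = algebraMap R Rp s0 * b'.coord i (mk x) := by
    intro i x
    have h := LinearMap.congr_fun (hg i) x
    simp only [LinearMap.comp_apply, Algebra.linearMap_apply, LinearMap.smul_apply,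
      LinearMap.restrictScalars_apply, Submonoid.smul_def, Algebra.smul_def] at h
    simp only [g0, LinearMap.smul_apply, smul_eq_mul, map_mul, h, ← mul_assoc, s0]
    rw [← map_mul, Finset.prod_erase_mul _ _ (Finset.mem_univ i)]
  have hd : ∀ i j, ∃ c : S, (c : R) * g0 i (m j).1 = (c : R) * if i = j then s0 else 0 := by
    intro i j
    refine IsLocalization.exists_of_eq (M := S) (S := Rp) ?_
    rw [hg0, ← hb', Module.Basis.coord_apply, Module.Basis.repr_self, Finsupp.single_apply]
    by_cases h : i = j
    · subst h; simp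
    · simp [h, Ne.symm h]
  choose c hc using hd
  let c0 : R := ∏ ij : Fin n × Fin n, (c ij.1 ij.2 : R)
  have hc0 : ∀ i j, c0 * g0 i (m j).1 = c0 * if i = j then s0 else 0 := by
    intro i j
    simp only [c0]
    rw [← Finset.prod_erase_mul _ _ (Finset.mem_univ (i, j)), mul_assoc, mul_assoc, hc]
  have hc0S : c0 ∈ S := prod_mem fun ij _ ↦ (c ij.1 ij.2).2
  have hs0S : s0 ∈ S := prod_mem fun i _ ↦ (s i).2
  refine ⟨fun j ↦ (m j).1, fun i ↦ c0 • g0 i, c0 * s0, S.mul_mem hc0S hs0S, ?_, ?_⟩
  · intro i j
    simp only [LinearMap.smul_apply, smul_eq_mul, hc0, mul_ite, mul_zero]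
  · intro v
    have h0 : mk (s0 • v - ∑ j, g0 j v • (m j).1) = 0 := by
      simp only [map_sub, map_sum, map_smul, ← algebraMap_smul Rp (g0 _ v), hg0, ← hb', mul_smul,
        ← Finset.smul_sum, Module.Basis.coord_apply, b'.sum_repr, algebraMap_smul, sub_self]
    obtain ⟨t, ht⟩ := (IsLocalizedModule.eq_zero_iff S mk).mp h0
    refine ⟨(t : R) * s0, S.mul_mem t.2 hs0S, ?_⟩
    simp only [Submonoid.smul_def, smul_sub, sub_eq_zero, smul_smul] at ht
    rw [ht]
    exact Submodule.smul_mem _ _ (Submodule.sum_mem _ fun j _ ↦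
      Submodule.smul_mem _ _ (Submodule.subset_span ⟨j, rfl⟩))

/-- An alternating map that is killed by `c` on a family `e` is killed by `c` on all families in the
span of `e`. -/
theorem smul_apply_eq_zero_of_mem_span {N : Type*} [AddCommGroup N] [Module R N] {n : ℕ}
    (f : M [⋀^Fin n]→ₗ[R] N) (e : Fin n → M) (c : R) (hc : c • f e = 0) (v : Fin n → M)
    (hv : ∀ j, v j ∈ Submodule.span R (Set.range e)) : c • f v = 0 := by
  classical
  let L : (Fin n → R) →ₗ[R] M := Fintype.linearCombination R e
  have hz : c • f.compLinearMap L = 0 := by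
    refine (Pi.basisFun R (Fin n)).ext_alternating fun σ hσ ↦ ?_
    let π : Equiv.Perm (Fin n) := Equiv.ofBijective σ (Finite.injective_iff_bijective.mp hσ)
    have : (fun i ↦ L (Pi.basisFun R (Fin n) (σ i))) = e ∘ π := by
      funext i
      simp [L, π, Fintype.linearCombination_apply_single]
    simp only [AlternatingMap.smul_apply, AlternatingMap.compLinearMap_apply, this,
      AlternatingMap.map_perm, AlternatingMap.zero_apply]
    rw [smul_comm, hc, smul_zero]
  have hw : ∀ j, ∃ a, L a = v j := fun j ↦ by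
    have := hv j
    rwa [← Fintype.range_linearCombination] at this
  choose a ha using hw
  have := congrArg (fun F ↦ F a) hz
  simpa [funext ha] using this

variable (n : ℕ) (w : M)

/-- Values of functionals at `w` kill the top exterior power of `M ⧸ R w`. -/
theorem apply_mem_annihilator [Module.Finite R M] [Module.Projective R M]
    (hn : ∀ p : PrimeSpectrum R, rankAtStalk M p = n) (ψ : M →ₗ[R] R) :
    ψ w ∈ (⋀[R]^n (M ⧸ Submodule.span R {w})).annihilator := by
  classical
  rw [Module.mem_annihilator]
  let π := (Submodule.span R {w}).mkQ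
  have hπw : π w = 0 := (Submodule.Quotient.mk_eq_zero _).mpr (Submodule.mem_span_singleton_self w)
  suffices h : ∀ v : Fin n → M, ψ w • exteriorPower.ιMulti R n (fun i ↦ π (v i)) = 0 by
    intro x
    have hx : x ∈ Submodule.span R (Set.range (exteriorPower.ιMulti R n)) := by
      rw [exteriorPower.ιMulti_span]; trivial
    induction hx using Submodule.span_induction with
    | mem y hy =>
        obtain ⟨q, rfl⟩ := hy
        choose v hv using fun i ↦ Submodule.mkQ_surjective _ (q i)
        have := h v
        simp only [π] at this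
        rwa [show (fun i ↦ (Submodule.span R {w}).mkQ (v i)) = q from funext hv] at this
    | zero => simp
    | add a b _ _ ha hb => rw [smul_add, ha, hb, add_zero]
    | smul r a _ ha => rw [smul_comm, ha, smul_zero]
  intro v
  set x := ψ w • exteriorPower.ιMulti R n (fun i ↦ π (v i)) with hx
  have key : Ideal.torsionOf R _ x = ⊤ := by
    by_contra hne
    obtain ⟨P, hP, hle⟩ := Ideal.exists_le_maximal _ hne
    obtain ⟨e, φ, s, -, -, hspan⟩ := exists_frame (M := M) ⟨P, hP.isPrime⟩ (hn _)
    obtain ⟨t, htP, ht⟩ := hspan w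
    choose tv htvP htv using fun i ↦ hspan (v i)
    obtain ⟨a, ha⟩ := (Submodule.mem_span_range_iff_exists_fun R).mp ht
    let F : M [⋀^Fin n]→ₗ[R] ⋀[R]^n (M ⧸ Submodule.span R {w}) :=
      (exteriorPower.ιMulti R n).compLinearMap π
    have hai : ∀ i, a i • F e = 0 := by
      intro i
      have h0 : F (Function.update e i (∑ j, a j • e j)) = 0 := by
        have he : π (∑ j, a j • e j) = 0 := by rw [ha, map_smul, hπw, smul_zero]
        refine (exteriorPower.ιMulti R n).map_coord_zero i ?_
        simp only [AlternatingMap.compLinearMap_apply]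
        simp [he]
      rw [F.map_update_sum, Finset.sum_eq_single i] at h0
      · rwa [F.map_update_smul, Function.update_eq_self] at h0
      · intro j _ hji
        rw [F.map_update_smul, F.map_eq_zero_of_eq _ (i := i) (j := j) ?_ (Ne.symm hji), smul_zero]
        simp [Function.update_of_ne hji]
      · simp
    have hzero : (t * ψ w) • F e = 0 := by
      have htw : t * ψ w = ∑ i, ψ (a i • e i) := by rw [← map_sum, ha, map_smul, smul_eq_mul]
      rw [htw, Finset.sum_smul]
      refine Finset.sum_eq_zero fun i _ ↦ ?_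
      rw [map_smul, smul_eq_mul, mul_comm, mul_smul, hai, smul_zero]
    have h2 := smul_apply_eq_zero_of_mem_span F e (t * ψ w) hzero (fun i ↦ tv i • v i) htv
    rw [AlternatingMap.map_smul_univ, smul_smul] at h2
    have h3 : t * ∏ i, tv i ∈ Ideal.torsionOf R _ x := by
      rw [Ideal.mem_torsionOf_iff, hx, smul_smul]
      rw [show t * (∏ i, tv i) * ψ w = t * ψ w * ∏ i, tv i by ring]
      exact h2
    rcases hP.isPrime.mem_or_mem (hle h3) with h | h
    · exact htP h
    · obtain ⟨i, -, hi⟩ := (hP.isPrime.prod_mem_iff).mp h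
      exact htvP i hi
  simpa using (Ideal.eq_top_iff_one _).mp key

/-- The determinant of functionals modulo an ideal, as an alternating map. -/
noncomputable def detMod {N : Type*} [AddCommGroup N] [Module R N] (I : Ideal R) (m : ℕ)
    (φ : Fin m → (N →ₗ[R] R ⧸ I)) : N [⋀^Fin m]→ₗ[R] (R ⧸ I) where
  toMultilinearMap :=
    ((Matrix.detRowAlternating (n := Fin m) (R := R ⧸ I)).toMultilinearMap.restrictScalars
      R).compLinearMap fun _ ↦ LinearMap.pi φ
  map_eq_zero_of_eq' v i j hv hij := by
    refine (Matrix.detRowAlternating (n := Fin m) (R := R ⧸ I)).map_eq_zero_of_eq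
      (fun k ↦ LinearMap.pi φ (v k)) ?_ hij
    simp [hv]

theorem detMod_apply {N : Type*} [AddCommGroup N] [Module R N] (I : Ideal R) (m : ℕ)
    (φ : Fin m → (N →ₗ[R] R ⧸ I)) (v : Fin m → N) :
    detMod I m φ v = Matrix.det (Matrix.of fun k i ↦ φ i (v k)) := rfl

/-- The annihilator of the top exterior power of `M ⧸ R w`. -/
theorem annihilator_eq [Module.Finite R M] [Module.Projective R M]
    (hn : ∀ p : PrimeSpectrum R, rankAtStalk M p = n) :
    (⋀[R]^n (M ⧸ Submodule.span R {w})).annihilator =
      Ideal.span (Set.range fun ψ : M →ₗ[R] R ↦ ψ w) := by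
  classical
  refine le_antisymm ?_ (Ideal.span_le.mpr ?_)
  swap
  · rintro _ ⟨ψ, rfl⟩
    exact apply_mem_annihilator n w hn ψ
  intro r hr
  set I := Ideal.span (Set.range fun ψ : M →ₗ[R] R ↦ ψ w)
  by_contra hrI
  have hne : I.colon {r} ≠ (⊤ : Ideal R) := fun h ↦ hrI (by
    have h1 : (1 : R) ∈ I.colon {r} := h ▸ trivial
    simpa [Submodule.mem_colon_singleton] using h1)
  obtain ⟨P, hP, hle⟩ := Ideal.exists_le_maximal _ hne
  obtain ⟨e, φ, s, hs, hφ, -⟩ := exists_frame (M := M) ⟨P, hP.isPrime⟩ (hn _)
  let φ' : Fin n → ((M ⧸ Submodule.span R {w}) →ₗ[R] R ⧸ I) := fun i ↦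
    (Submodule.span R {w}).liftQ (Submodule.mkQ I ∘ₗ φ i) (by
      rw [Submodule.span_le, Set.singleton_subset_iff, SetLike.mem_coe, LinearMap.mem_ker]
      exact (Submodule.Quotient.mk_eq_zero I).mpr (Ideal.subset_span ⟨φ i, rfl⟩))
  let Φ := exteriorPower.alternatingMapLinearEquiv (detMod I n φ')
  have h1 : Φ (exteriorPower.ιMulti R n fun j ↦ (Submodule.span R {w}).mkQ (e j)) =
      Ideal.Quotient.mk I (s ^ n) := by
    rw [exteriorPower.alternatingMapLinearEquiv_apply_ιMulti, detMod_apply]
    have : (Matrix.of fun k i ↦ φ' i ((Submodule.span R {w}).mkQ (e k))) =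
        Matrix.diagonal fun _ : Fin n ↦ Ideal.Quotient.mk I s := by
      ext k i
      simp only [Matrix.of_apply, φ', Submodule.liftQ_apply, Submodule.mkQ_apply,
        LinearMap.comp_apply, hφ]
      by_cases h : k = i
      · subst h; rw [if_pos rfl, Matrix.diagonal_apply_eq]; rfl
      · rw [if_neg (Ne.symm h), Matrix.diagonal_apply_ne _ h]; rfl
    rw [this, Matrix.det_diagonal, Finset.prod_const, Finset.card_univ, Fintype.card_fin, map_pow]
  rw [Module.mem_annihilator] at hr
  have h2 := congrArg Φ (hr (exteriorPower.ιMulti R n fun j ↦ (Submodule.span R {w}).mkQ (e j)))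
  rw [map_smul, h1, map_zero, Algebra.smul_def, Ideal.Quotient.algebraMap_eq, ← map_mul,
    Ideal.Quotient.eq_zero_iff_mem] at h2
  have h3 : s ^ n ∈ I.colon {r} := by
    rw [Submodule.mem_colon_singleton, smul_eq_mul, mul_comm]; exact h2
  exact hs (hP.isPrime.mem_of_pow_mem n (hle h3))

end Groth.Agent.LocIntAnn
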